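import Cfsg.Agent.H786.XData_mg
import Cfsg.Agent.H744.EssRad
import Cfsg.Agent.H802.FusSub
set_option linter.all false

/-!
# Block III of S5267: from fusion systems to the core lemma

* `eq_of_ess` : `F` saturated over a `p`-group `S` of maximal class (chain `W`), `E ≤ M = W 1` essential, every
  automorphism of `E` in `F` which extends to a larger subgroup is the restriction of an element of `Aut_F(M)`; then
  `E = M` (modulo the core lemma `CL`);
* `ext_of_essential` : the last hypothesis holds if every essential subgroup of order greater than `|E|` is `M`.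
-/

set_option autoImplicit false

namespace Cfsg.Agent.H42.MaxEss

open Subgroup Cfsg Cfsg.FusionSystem Cfsg.Agent.H802 Cfsg.Agent.H744 Cfsg.Agent.H786 Cfsg.Agent.H467.MaxClass
open scoped commutatorElement

universe u

variable {Ω : Type u} [Group Ω] {S : Subgroup Ω}

/-- normal subgroups of `S` -/
theorem map_normal {N : Subgroup ↥S} (hN : N.Normal) {s : Ω} (hs : s ∈ S) :
    s ∈ normalizer ((N.map S.subtype : Subgroup Ω) : Set Ω) := by
  have key : ∀ s ∈ S, ∀ x ∈ N.map S.subtype, s * x * s⁻¹ ∈ N.map S.subtype := by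
    rintro s hs _ ⟨x, hx, rfl⟩
    exact ⟨⟨s, hs⟩ * x * ⟨s, hs⟩⁻¹, hN.conj_mem x hx _, rfl⟩
  rw [mem_normalizer_iff]
  intro x
  refine ⟨key s hs x, fun h => ?_⟩
  have := key s⁻¹ (inv_mem hs) _ h
  have e : s⁻¹ * (s * x * s⁻¹) * s⁻¹⁻¹ = x := by group
  rwa [e] at this

theorem normalizerIn_map {N : Subgroup ↥S} (hN : N.Normal) : normalizerIn S (N.map S.subtype) = S :=
  le_antisymm inf_le_left fun _ hs => ⟨hs, map_normal hN hs⟩

/-- normal subgroups of `S` are fully normalized -/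
theorem isFullyNormalized_of_normal [Finite S] (F : FusionSystem S) {N : Subgroup ↥S} (hN : N.Normal) :
    F.IsFullyNormalized (N.map S.subtype) := by
  refine ⟨map_subtype_le N, fun Q _ => ?_⟩
  rw [normalizerIn_map hN]
  exact Subgroup.card_le_of_le inf_le_left

/-- the extendable automorphisms -/
theorem mem_closure_iff {F : FusionSystem S} {E M : Subgroup Ω} (hEM : E < M) (hMS : M ≤ S)
    (hext : ∀ α : MulAut E, Extends F E α → ∃ a ∈ F.autGroup M, ∀ (x : M) (y : E), (x : Ω) = y → ((a x : M) : Ω) = α y)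
    (α : MulAut E) : α ∈ Subgroup.closure {α : MulAut E | Extends F E α} ↔
      α ∈ F.autGroup E ∧ ∃ a ∈ F.autGroup M, ∀ (x : M) (y : E), (x : Ω) = y → ((a x : M) : Ω) = α y := by
  constructor
  · intro h
    have h1 : Subgroup.closure {α : MulAut E | Extends F E α} ≤ F.autGroup E := by
      rw [Subgroup.closure_le]
      exact fun α hα => Extends.mem hα
    refine ⟨h1 h, ?_⟩
    refine Subgroup.closure_induction
      (p := fun α _ => ∃ a ∈ F.autGroup M, ∀ (x : M) (y : E), (x : Ω) = y → ((a x : M) : Ω) = α y) ?_ ?_ ?_ ?_ h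
    · intro α hα
      exact hext α hα
    · exact ⟨1, one_mem _, fun x y hxy => hxy⟩
    · rintro α β _ _ ⟨a, ha, h1⟩ ⟨b, hb, h2⟩
      exact ⟨a * b, mul_mem ha hb, fun x y hxy => h1 (b x) (β y) (h2 x y hxy)⟩
    · rintro α _ ⟨a, ha, h1⟩
      refine ⟨a⁻¹, inv_mem ha, fun x y hxy => ?_⟩
      have h2 := h1 ⟨α⁻¹ y, hEM.le (α⁻¹ y).2⟩ (α⁻¹ y) rfl
      have h3 : α (α⁻¹ y) = y := α.apply_symm_apply y
      rw [h3, ← hxy] at h2
      have h4 : a ⟨α⁻¹ y, hEM.le (α⁻¹ y).2⟩ = x := Subtype.ext h2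
      have h5 : a⁻¹ x = ⟨α⁻¹ y, hEM.le (α⁻¹ y).2⟩ := by
        rw [← h4]
        exact a.symm_apply_apply _
      rw [h5]
  · rintro ⟨hα, a, ha, h⟩
    apply Subgroup.subset_closure
    exact ⟨M, hEM, M.subtype.comp a.toMonoidHom, (mem_autGroup_iff F hMS a).1 ha,
      fun x => h (Subgroup.inclusion hEM.le x) x rfl⟩

variable [Finite S] {p : ℕ} [hp : Fact p.Prime]

/-- **Block III.** -/
theorem eq_of_ess (hCL : CL.{u} p) (hS : IsPGroup p S) {F : FusionSystem S} (hF : F.IsSaturated p) {n : ℕ}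
    {W : ℕ → Subgroup ↥S} (mc : MC ↥S p n W) (h5 : 5 ≤ p) {E : Subgroup Ω} (hE : F.IsEssential p E)
    (hEM : E ≤ (W 1).map S.subtype) {j₀ : ℕ} (h3 : 3 ≤ j₀) (hn : j₀ ≤ n)
    (hdeg : ∀ i k, 1 ≤ i → 1 ≤ k → ⁅W i, W k⁆ ≤ W (i + k + 1) ⊔ W j₀) (hle : (W j₀).map S.subtype ≤ E)
    (invE : ∀ α ∈ F.autGroup E, ∀ x : E, (x : Ω) ∈ (W j₀).map S.subtype → ((α x : E) : Ω) ∈ (W j₀).map S.subtype)
    (invM : ∀ a ∈ F.autGroup ((W 1).map S.subtype), ∀ x : ((W 1).map S.subtype : Subgroup Ω),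
      (x : Ω) ∈ (W j₀).map S.subtype → ((a x : ((W 1).map S.subtype : Subgroup Ω)) : Ω) ∈ (W j₀).map S.subtype)
    (hc : ⁅W j₀, W 1⁆ = ⊥)
    (hext : ∀ α : MulAut E, Extends F E α → ∃ a ∈ F.autGroup ((W 1).map S.subtype),
      ∀ (x : ((W 1).map S.subtype : Subgroup Ω)) (y : E), (x : Ω) = y →
        ((a x : ((W 1).map S.subtype : Subgroup Ω)) : Ω) = α y) :
    E = (W 1).map S.subtype := by
  by_contra hne
  set M : Subgroup Ω := (W 1).map S.subtype with hM
  have hn1 : (W 1).Normal := mc.normal 1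
  have hMS : M ≤ S := map_subtype_le _
  have hEM' : E < M := lt_of_le_of_ne hEM hne
  have hES : E ≤ S := hEM.trans hMS
  have hES' : E < S := lt_of_lt_of_le hEM' hMS
  have hfE : Finite E := finite_of_le hES
  have hfM : Finite M := finite_of_le hMS
  have hEn := hE.2.1
  have hEc := hE.1
  have hmem : ∀ (i : ℕ) (s : ↥S), (s : Ω) ∈ (W i).map S.subtype ↔ s ∈ W i := by
    intro i s
    constructor
    · rintro ⟨t, ht, hts⟩
      have : t = s := Subtype.ext hts
      rwa [← this]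
    · intro h
      exact ⟨s, h, rfl⟩
  -- the strongly embedded subgroup
  have hdich := extendable_dichotomy hS hF hES' hEn _ rfl
  obtain ⟨-, hnorm, hH⟩ := hdich.resolve_left fun h => h.1 hE
  set H0 : Subgroup (MulAut E) := Subgroup.closure {α : MulAut E | Extends F E α} with hH0
  let H : Subgroup (F.autGroup E ⧸ II (F.autGroup E)) :=
    (H0.subgroupOf (F.autGroup E)).map (QuotientGroup.mk' (II (F.autGroup E)))
  have hmH0 := mem_closure_iff hEM' hMS hext
  have hHmem : ∀ g : F.autGroup E, (QuotientGroup.mk g : F.autGroup E ⧸ II (F.autGroup E)) ∈ H ↔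
      (g : MulAut E) ∈ H0 := by
    intro g
    constructor
    · rintro ⟨h, hh, hhg⟩
      have h1 : h⁻¹ * g ∈ II (F.autGroup E) := by
        rw [← QuotientGroup.eq]
        exact hhg
      have h2 : ((h⁻¹ * g : F.autGroup E) : MulAut E) ∈ H0 :=
        Subgroup.subset_closure (extends_of_inn F hES' (mem_subgroupOf.1 h1))
      have h3 : (g : MulAut E) = h * ((h⁻¹ * g : F.autGroup E) : MulAut E) := by
        rw [Subgroup.coe_mul, Subgroup.coe_inv, mul_inv_cancel_left]
      rw [h3]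
      exact mul_mem (mem_subgroupOf.1 hh) h2
    · intro h
      exact ⟨g, mem_subgroupOf.2 h, rfl⟩
  let ιM : M →* ↥S := Subgroup.inclusion hMS
  let ιE : E →* ↥S := Subgroup.inclusion hES
  have hrE : ∀ s : ↥S, s ∈ ιE.range ↔ (s : Ω) ∈ E := by
    intro s
    constructor
    · rintro ⟨x, rfl⟩
      exact x.2
    · intro h
      exact ⟨⟨s, h⟩, rfl⟩
  have hrM : ιM.range = W 1 := by
    ext s
    rw [← hmem 1 s]
    constructor
    · rintro ⟨x, rfl⟩
      exact x.2
    · intro h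
      exact ⟨⟨s, h⟩, rfl⟩
  have e : Ess p n W ιM ιE (F.autGroup M) (F.autGroup E) H :=
    { mc := mc
      five := h5
      injM := Subgroup.inclusion_injective hMS
      injE := Subgroup.inclusion_injective hES
      rangeM := hrM
      rangeE := fun s hs => (hmem 1 s).1 (hEM ((hrE s).1 hs))
      ne := by
        intro h
        apply hne
        apply le_antisymm hEM
        intro x hx
        have h1 : (⟨x, hMS hx⟩ : ↥S) ∈ ιE.range := by
          rw [h]
          exact (hmem 1 _).1 hx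
        exact (hrE _).1 h1
      conjM := by
        intro s
        obtain ⟨a, ha⟩ := exists_conjAut (map_normal hn1 s.2)
        refine ⟨a, autInducedBy_le_autGroup F hMS ((mem_autInducedBy_iff S M a).2 ⟨s, s.2, ha⟩), fun x => ?_⟩
        exact Subtype.ext (ha x)
      sylM := by
        obtain ⟨-, T, hT⟩ := isFullyAutomized_of_isFullyNormalized hS hF (isFullyNormalized_of_normal F hn1)
        refine ⟨T, fun a ha => ?_⟩
        have h1 : a ∈ (autInducedBy S M).subgroupOf (F.autGroup M) := by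
          rw [← hT]
          exact ha
        obtain ⟨g, hg, h2⟩ := (mem_autInducedBy_iff S M a).1 (mem_subgroupOf.1 h1)
        exact ⟨⟨g, hg⟩, fun x => Subtype.ext (h2 x)⟩
      conjE := by
        intro s hs
        have h1 : (s : Ω) ∈ normalizer (E : Set Ω) := by
          have key : ∀ s ∈ normalizer (ιE.range : Set ↥S), ∀ x ∈ E, (s : Ω) * x * (s : Ω)⁻¹ ∈ E := by
            intro s hs x hx
            have h2 := (mem_normalizer_iff.1 hs ⟨x, hES hx⟩).1 ((hrE _).2 hx)
            exact (hrE _).1 h2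
          rw [mem_normalizer_iff]
          intro x
          refine ⟨key s hs x, fun h => ?_⟩
          have := key s⁻¹ (inv_mem hs) _ h
          have e1 : ((s⁻¹ : ↥S) : Ω) * ((s : Ω) * x * (s : Ω)⁻¹) * ((s⁻¹ : ↥S) : Ω)⁻¹ = x := by
            rw [Subgroup.coe_inv]; group
          rwa [e1] at this
        obtain ⟨b, hb⟩ := exists_conjAut h1
        refine ⟨b, autInducedBy_le_autGroup F hES ((mem_autInducedBy_iff S E b).2 ⟨s, s.2, hb⟩), fun x => ?_⟩
        exact Subtype.ext (hb x)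
      sylE := by
        obtain ⟨-, T, hT⟩ := isFullyAutomized_of_isFullyNormalized hS hF hEn
        refine ⟨T, fun a ha => ?_⟩
        have h1 : a ∈ (autInducedBy S E).subgroupOf (F.autGroup E) := by
          rw [← hT]
          exact ha
        obtain ⟨g, hg, h2⟩ := (mem_autInducedBy_iff S E a).1 (mem_subgroupOf.1 h1)
        exact ⟨⟨g, hg⟩, fun x => Subtype.ext (h2 x)⟩
      centric := by
        intro s hs
        rw [hrE]
        refine hEc.2 E (isConj_refl F hES) ⟨s.2, mem_centralizer_iff.2 fun x hx => ?_⟩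
        exact (congrArg Subtype.val (hs ⟨x, hx⟩).eq).symm
      mem_H := by
        intro g
        rw [hHmem, hmH0]
        constructor
        · rintro ⟨-, a, ha, h⟩
          refine ⟨a, ha, fun x y hxy => Subtype.ext (h x y (congrArg Subtype.val hxy))⟩
        · rintro ⟨a, ha, h⟩
          exact ⟨g.2, a, ha, fun x y hxy => congrArg Subtype.val (h x y (Subtype.ext hxy))⟩
      H_ne := hH.2.1
      inter := fun γ hγ => Cfsg.Agent.EvenType.StrongP.inter hH hγ }
  refine e.false hCL h3 hn hdeg (fun s hs => (hrE s).2 (hle ((hmem j₀ s).2 hs))) ?_ ?_ hc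
  · intro g x hx
    exact (hmem j₀ _).1 (invE g g.2 x ((hmem j₀ _).2 hx))
  · intro a ha x hx
    exact (hmem j₀ _).1 (invM a ha x ((hmem j₀ _).2 hx))

/-! ### the chain is characteristic -/

theorem W_map {P : Type u} [Group P] {p n : ℕ} {W : ℕ → Subgroup P} (mc : MC P p n W) (φ : P ≃* P) (i : ℕ)
    (hi : 2 ≤ i) : (W i).map φ.toMonoidHom = W i := by
  induction i, hi using Nat.le_induction with
  | base =>
    rw [← mc.comm_top, map_commutator, Subgroup.map_top_of_surjective _ φ.surjective]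
  | succ i hi ih =>
    rw [← mc.comm i hi, map_commutator, ih, Subgroup.map_top_of_surjective _ φ.surjective]

theorem W1_eq {P : Type u} [Group P] {p n : ℕ} [Fact p.Prime] {W : ℕ → Subgroup P} (mc : MC P p n W) :
    mc.Ksub 2 = W 1 := by
  apply mc.eq_W1
  · intro x hx w hw
    exact mc.two (commutator_mem_commutator hw hx)
  · exact mc.Ksub_ne_top le_rfl (by have := mc.four_le; omega)

/-- `W 1` is characteristic -/
theorem W1_mem {P : Type u} [Group P] {p n : ℕ} [Fact p.Prime] {W : ℕ → Subgroup P} (mc : MC P p n W) (φ : P ≃* P)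
    {x : P} (hx : x ∈ W 1) : φ x ∈ W 1 := by
  rw [← W1_eq mc]
  intro w hw
  rw [← W_map mc φ 2 le_rfl] at hw
  obtain ⟨w, hw, rfl⟩ := hw
  rw [← W_map mc φ 4 (by norm_num)]
  exact ⟨⁅w, x⁆, mc.two (commutator_mem_commutator hw hx), map_commutatorElement φ.toMonoidHom w x⟩

/-! ### Alperin's theorem above `E` -/

omit hp in
/-- the subsystem of the maps whose restrictions to `M` come from `Aut_F(M)`, as long as the source is larger than `c` -/
theorem exists_sub (F : FusionSystem S) {M : Subgroup Ω} (hMS : M ≤ S)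
    (hMn : ∀ s ∈ S, s ∈ normalizer (M : Set Ω)) (c : ℕ) : ∃ F' : FusionSystem S, ∀ (Q : Subgroup Ω) (φ : Q →* Ω),
      φ ∈ F'.Hom Q ↔ φ ∈ F.Hom Q ∧ (c < Nat.card Q → (∀ x : Q, (x : Ω) ∈ M ↔ φ x ∈ M) ∧
        ∃ a ∈ F.autGroup M, ∀ (x : Q) (hx : (x : Ω) ∈ M), φ x = (a ⟨x, hx⟩ : M)) := by
  refine ⟨{ Hom := fun Q => {φ | φ ∈ F.Hom Q ∧ (c < Nat.card Q → (∀ x : Q, (x : Ω) ∈ M ↔ φ x ∈ M) ∧
              ∃ a ∈ F.autGroup M, ∀ (x : Q) (hx : (x : Ω) ∈ M), φ x = (a ⟨x, hx⟩ : M))}
            le_of_mem := fun h => F.le_of_mem h.1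
            injective_of_mem := fun h => F.injective_of_mem h.1
            conj_mem := ?_
            comp_mem := ?_
            inv_mem := ?_ }, fun Q φ => Iff.rfl⟩
  · intro Q g hQ hg
    refine ⟨F.conj_mem hQ hg, fun _ => ⟨fun x => mem_normalizer_iff.1 (hMn g hg) x, ?_⟩⟩
    obtain ⟨a, ha⟩ := exists_conjAut (hMn g hg)
    exact ⟨a, autInducedBy_le_autGroup F hMS ((mem_autInducedBy_iff S M a).2 ⟨g, hg, ha⟩),
      fun x hx => (ha ⟨x, hx⟩).symm⟩
  · intro Q R φ ψ hφ hψ h
    refine ⟨F.comp_mem hφ.1 hψ.1 h, fun hc => ?_⟩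
    have hfR : Finite R := finite_of_le (hom_le hψ.1)
    have hc' : c < Nat.card R := by
      refine lt_of_lt_of_le hc (Nat.card_le_card_of_injective (fun x : Q => (⟨φ x, h x⟩ : R)) ?_)
      intro x y hxy
      exact F.injective_of_mem hφ.1 (congrArg Subtype.val hxy)
    obtain ⟨h1, a, ha, h2⟩ := hφ.2 hc
    obtain ⟨h3, b, hb, h4⟩ := hψ.2 hc'
    refine ⟨fun x => (h1 x).trans (h3 ⟨φ x, h x⟩), b * a, mul_mem hb ha, fun x hx => ?_⟩
    have h5 : φ x ∈ M := (h1 x).1 hx
    show ψ ⟨φ x, h x⟩ = (b (a ⟨x, hx⟩) : M)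
    rw [h4 ⟨φ x, h x⟩ h5]
    congr 2
    exact Subtype.ext (h2 x hx)
  · intro Q φ hφ
    obtain ⟨ψ, hψ, h⟩ := F.inv_mem hφ.1
    refine ⟨ψ, ⟨hψ, fun hc => ?_⟩, h⟩
    have hc' : c < Nat.card Q := by
      rwa [← isConj_card_eq (isConj_range hφ.1)] at hc
    obtain ⟨h1, a, ha, h2⟩ := hφ.2 hc'
    refine ⟨?_, a⁻¹, inv_mem ha, ?_⟩
    · rintro ⟨_, x, rfl⟩
      show φ x ∈ M ↔ ψ ⟨φ x, ⟨x, rfl⟩⟩ ∈ M
      rw [h x]
      exact (h1 x).symm
    · rintro ⟨_, x, rfl⟩ hx
      show ψ ⟨φ x, ⟨x, rfl⟩⟩ = _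
      have hxM : (x : Ω) ∈ M := (h1 x).2 hx
      have h3 : (⟨φ x, hx⟩ : M) = a ⟨x, hxM⟩ := Subtype.ext (h2 x hxM)
      rw [h x]
      show (x : Ω) = (a⁻¹ ⟨φ x, hx⟩ : M)
      rw [h3]
      have h4 : a⁻¹ (a ⟨x, hxM⟩) = ⟨x, hxM⟩ := a.symm_apply_apply _
      rw [h4]

/-- **Alperin above `E`**: if every essential subgroup of order greater than `|E|` is `M`, the automorphisms of `E`
which extend are restrictions of elements of `Aut_F(M)`. -/
theorem ext_of_essential (hS : IsPGroup p S) {F : FusionSystem S} (hF : F.IsSaturated p) {M : Subgroup Ω}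
    (hMS : M ≤ S) (hMn : ∀ s ∈ S, s ∈ normalizer (M : Set Ω))
    (hMc : ∀ α ∈ F.autGroup S, ∀ x : S, (x : Ω) ∈ M → ((α x : S) : Ω) ∈ M) {E : Subgroup Ω} (hEM : E ≤ M)
    (hess : ∀ R : Subgroup Ω, F.IsEssential p R → Nat.card E < Nat.card R → R = M) (α : MulAut E)
    (hα : Extends F E α) : ∃ a ∈ F.autGroup M, ∀ (x : M) (y : E), (x : Ω) = y → ((a x : M) : Ω) = α y := by
  obtain ⟨F', hF'⟩ := exists_sub F hMS hMn (Nat.card E)
  have hfM : Finite M := finite_of_le hMS
  have key : ∀ Q, F.Hom Q ⊆ F'.Hom Q := by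
    refine le_of_autGroup_le hS hF F' fun Q hQn hQ β hβ => ?_
    have hQS := hQn.1
    rcases Nat.lt_or_ge (Nat.card E) (Nat.card Q) with hc | hc
    · rcases eq_or_ne Q S with rfl | hne
      · -- `Q = S`
        rw [mem_autGroup_iff F' le_rfl, hF']
        refine ⟨(mem_autGroup_iff F le_rfl β).1 hβ, fun _ => ⟨fun x => ⟨fun hx => hMc β hβ x hx, fun hx => ?_⟩, ?_⟩⟩
        · have h1 := hMc β⁻¹ (inv_mem hβ) (β x) hx
          have h2 : β⁻¹ (β x) = x := β.symm_apply_apply x
          rwa [h2] at h1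
        · have h1 : (Q.subtype.comp β.toMonoidHom).comp (Subgroup.inclusion hMS) ∈ F.Hom M :=
            restrict_mem ((mem_autGroup_iff F le_rfl β).1 hβ) hMS
          have h2 := range_eq_of_mapsTo h1 (fun x => hMc β hβ ⟨x, hMS x.2⟩ x.2)
          obtain ⟨a, ha, h3⟩ := exists_aut h1 h2
          exact ⟨a, ha, fun x hx => (h3 ⟨x, hx⟩).symm⟩
      · have hlt : Q < S := lt_of_le_of_ne hQS hne
        rcases extendable_dichotomy hS hF hlt hQn _ rfl with ⟨-, h1⟩ | ⟨h1, -⟩
        · rw [← h1] at hβ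
          have h2 : Subgroup.closure {α : MulAut Q | Extends F Q α} ≤ F'.autGroup Q := by
            rw [Subgroup.closure_le]
            rintro γ ⟨R, hQR, ψ, hψ, hγ⟩
            have hfR : Finite R := finite_of_le (hom_le hψ)
            have h3 : Nat.card Q < Nat.card R := by
              by_contra hcon
              exact hQR.ne (Subgroup.eq_of_le_of_card_ge hQR.le (not_lt.1 hcon))
            have h4 := hQ R h3 hψ
            show γ ∈ F'.autGroup Q
            rw [mem_autGroup_iff F' hQS]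
            exact mem_of_agree h4 hQR.le fun x hx => (hγ ⟨x, hx⟩).symm
          exact h2 hβ
        · have h2 := hess Q h1 hc
          subst h2
          rw [mem_autGroup_iff F' hQS, hF']
          exact ⟨(mem_autGroup_iff F hQS β).1 hβ, fun _ => ⟨fun x => ⟨fun _ => (β x).2, fun _ => x.2⟩,
            β, hβ, fun x hx => rfl⟩⟩
    · rw [mem_autGroup_iff F' hQS, hF']
      exact ⟨(mem_autGroup_iff F hQS β).1 hβ, fun h => absurd h (by omega)⟩
  obtain ⟨R, hER, ψ, hψ, h⟩ := hα
  have hfR : Finite R := finite_of_le (hom_le hψ)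
  have hc : Nat.card E < Nat.card R := by
    by_contra hcon
    exact hER.ne (Subgroup.eq_of_le_of_card_ge hER.le (not_lt.1 hcon))
  obtain ⟨-, a, ha, h1⟩ := ((hF' R ψ).1 (key R hψ)).2 hc
  refine ⟨a, ha, fun x y hxy => ?_⟩
  have h2 := h y
  have h3 := h1 (Subgroup.inclusion hER.le y) (hEM y.2)
  rw [h2] at h3
  rw [h3]
  congr 2
  exact Subtype.ext hxy

/-- **Block III, nonexceptional case.** -/
theorem eq_of_essential (hCL : CL.{u} p) (hS : IsPGroup p S) {F : FusionSystem S} (hF : F.IsSaturated p) {n : ℕ}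
    {W : ℕ → Subgroup ↥S} (mc : MC ↥S p n W) (h5 : 5 ≤ p)
    (hdeg : ∀ i k, 1 ≤ i → 1 ≤ k → ⁅W i, W k⁆ ≤ W (i + k + 1)) {E : Subgroup Ω} (hE : F.IsEssential p E)
    (hEM : E ≤ (W 1).map S.subtype)
    (hess : ∀ R : Subgroup Ω, F.IsEssential p R → Nat.card E < Nat.card R → R = (W 1).map S.subtype) :
    E = (W 1).map S.subtype := by
  have hbot : (W n).map S.subtype = ⊥ := by rw [mc.bot, Subgroup.map_bot]
  refine eq_of_ess hCL hS hF mc h5 hE hEM (j₀ := n) (by have := mc.four_le; omega) le_rfl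
    (fun i k hi hk => (hdeg i k hi hk).trans le_sup_left) (by rw [hbot]; exact bot_le) ?_ ?_ ?_ ?_
  · intro α _ x hx
    rw [hbot, mem_bot] at hx ⊢
    have h1 : x = 1 := Subtype.ext hx
    rw [h1, map_one]
    rfl
  · intro α _ x hx
    rw [hbot, mem_bot] at hx ⊢
    have h1 : x = 1 := Subtype.ext hx
    rw [h1, map_one]
    rfl
  · rw [mc.bot, Subgroup.commutator_bot_left]
  · refine fun α hα => ext_of_essential hS hF (map_subtype_le _) (fun s hs => map_normal (mc.normal 1) hs) ?_ hEM hess α hα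
    intro α _ x hx
    obtain ⟨y, hy, hyx⟩ := hx
    have h1 : y = x := Subtype.ext hyx
    rw [h1] at hy
    exact ⟨α x, W1_mem mc α hy, rfl⟩

end Cfsg.Agent.H42.MaxEss
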